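import Groth.Agent.H4Pair.Retract
import Mathlib.Algebra.Category.ModuleCat.Monoidal.Basic
import Mathlib.Algebra.Category.ModuleCat.Colimits
import Mathlib.CategoryTheory.GradedObject.Monoidal
import Mathlib.LinearAlgebra.TensorProduct.Finiteness
import Mathlib

/-!
# Dualizable graded modules
-/

set_option autoImplicit false

universe u

namespace Groth.Agent.H4Pair

open CategoryTheory MonoidalCategory Limits GradedObject

/-- Graded modules. -/
abbrev GM (R : Type u) [CommRing R] : Type (u + 1) := GradedObject ℤ (ModuleCat.{u} R)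

variable {R : Type u} [CommRing R]

set_option synthInstance.maxHeartbeats 100000 in
noncomputable instance instMonoidalGM : MonoidalCategory (GM R) := GradedObject.monoidalCategory

/-- The summand inclusion, on elements. -/
noncomputable def incl (P Q : (GM R)) (i₁ i₂ j : ℤ) (h : i₁ + i₂ = j) :
    TensorProduct R (P i₁) (Q i₂) →ₗ[R] ((P ⊗ Q : (GM R)) j : ModuleCat R) :=
  (Monoidal.ιTensorObj P Q i₁ i₂ j h).hom

theorem whiskerRight_incl {P P' : (GM R)} (f : P ⟶ P') (Q : (GM R)) (i₁ i₂ j : ℤ) (h : i₁ + i₂ = j) (p : P i₁) (q : Q i₂) :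
    ((f ▷ Q) j).hom (incl P Q i₁ i₂ j h (p ⊗ₜ q)) = incl P' Q i₁ i₂ j h ((f i₁).hom p ⊗ₜ q) :=
  LinearMap.congr_fun (congrArg ModuleCat.Hom.hom (Monoidal.ι_tensorHom f (𝟙 Q) i₁ i₂ j h)) (p ⊗ₜ q)

theorem whiskerLeft_incl (P : (GM R)) {Q Q' : (GM R)} (f : Q ⟶ Q') (i₁ i₂ j : ℤ) (h : i₁ + i₂ = j) (p : P i₁) (q : Q i₂) :
    ((P ◁ f) j).hom (incl P Q i₁ i₂ j h (p ⊗ₜ q)) = incl P Q' i₁ i₂ j h (p ⊗ₜ (f i₂).hom q) :=
  LinearMap.congr_fun (congrArg ModuleCat.Hom.hom (Monoidal.ι_tensorHom (𝟙 P) f i₁ i₂ j h)) (p ⊗ₜ q)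

theorem exists_sum_incl (P Q : (GM R)) (t : ((P ⊗ Q : (GM R)) 0 : ModuleCat R)) :
    ∃ (m : ℕ) (n : Fin m → ℤ) (x : ∀ k, P (n k)) (y : ∀ k, Q (-n k)),
      t = ∑ k, incl P Q (n k) (-n k) 0 (add_neg_cancel _) (x k ⊗ₜ y k) := by
  let A := Σ i : ℤ, (P i) × (Q (-i))
  let v : A → ((P ⊗ Q : (GM R)) 0 : ModuleCat R) := fun a => incl P Q a.1 (-a.1) 0 (add_neg_cancel _) (a.2.1 ⊗ₜ a.2.2)
  have htop : Submodule.span R (Set.range v) = ⊤ := by
    set S := Submodule.span R (Set.range v)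
    have h0 : ModuleCat.ofHom S.mkQ = 0 := by
      refine Monoidal.tensorObj_ext (X₁ := P) (X₂ := Q) _ _ fun i₁ i₂ h => ?_
      obtain rfl : i₂ = -i₁ := by omega
      refine ModuleCat.hom_ext (TensorProduct.ext' fun p q => ?_)
      exact (Submodule.Quotient.mk_eq_zero S).2 (Submodule.subset_span ⟨⟨i₁, p, q⟩, rfl⟩)
    refine Submodule.eq_top_iff'.2 fun z => (Submodule.Quotient.mk_eq_zero S).1 ?_
    exact LinearMap.congr_fun (congrArg ModuleCat.Hom.hom h0) z
  obtain ⟨c, hc⟩ := (Finsupp.mem_span_range_iff_exists_finsupp).1 (htop ▸ Submodule.mem_top : t ∈ Submodule.span R (Set.range v))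
  let e := c.support.equivFin
  refine ⟨_, fun k => (e.symm k).1.1, fun k => c (e.symm k).1 • (e.symm k).1.2.1, fun k => (e.symm k).1.2.2, ?_⟩
  rw [← hc, Finsupp.sum, ← Finset.sum_coe_sort, ← Equiv.sum_comp e.symm]
  refine Finset.sum_congr rfl fun k _ => ?_
  rw [← TensorProduct.smul_tmul', map_smul]

/-- A morphism from the unit given by an element. -/
noncomputable def ofElem {Z : (GM R)} (t : (Z 0 : ModuleCat R)) : (𝟙_ (GM R)) ⟶ Z := fun i =>
  if h : i = 0 then
    eqToHom (congrArg (fun i => (𝟙_ (GM R)) i) h) ≫ Monoidal.tensorUnit₀.hom ≫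
      ModuleCat.ofHom (LinearMap.toSpanSingleton R (Z 0) t) ≫ eqToHom (congrArg (fun i => Z i) h.symm)
  else (Monoidal.isInitialTensorUnitApply i h).to _

theorem ofElem_comp {Z Z' : (GM R)} (t : (Z 0 : ModuleCat R)) (f : Z ⟶ Z') (g : (𝟙_ (GM R)) ⟶ Z')
    (hg : (g 0).hom ((Monoidal.tensorUnit₀ (I := ℤ) (C := ModuleCat.{u} R)).inv.hom (1 : R)) = (f 0).hom t) :
    ofElem t ≫ f = g := by
  funext i
  by_cases h : i = 0
  · subst h
    refine (cancel_epi (Monoidal.tensorUnit₀ (I := ℤ) (C := ModuleCat.{u} R)).inv).1 ?_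
    refine ModuleCat.hom_ext (LinearMap.ext_ring ?_)
    show (f 0).hom ((ofElem t 0).hom _) = _
    rw [ofElem, dif_pos rfl]
    simp only [eqToHom_refl, Category.id_comp, Category.comp_id, ModuleCat.hom_comp, LinearMap.comp_apply]
    rw [hg]
    congr 1
    exact (congrArg (LinearMap.toSpanSingleton R (Z 0) t) (LinearMap.congr_fun
      (congrArg ModuleCat.Hom.hom (Monoidal.tensorUnit₀ (I := ℤ) (C := ModuleCat.{u} R)).inv_hom_id) (1 : R))).trans
      (one_smul R t)
  · exact (Monoidal.isInitialTensorUnitApply i h).hom_ext _ _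

/-- Dualizable graded modules are bounded with finite projective pieces. -/
theorem finite_projective (P Q : (GM R)) [ExactPairing P Q] :
    ∃ b : ℕ, (∀ i : ℤ, Module.Finite R (P i) ∧ Module.Projective R (P i) ∧
        ((b : ℤ) < |i| → Subsingleton (P i))) ∧
      (∀ i : ℤ, Module.Finite R (Q i) ∧ Module.Projective R (Q i) ∧ ((b : ℤ) < |i| → Subsingleton (Q i))) := by
  classical
  obtain ⟨m, n, x, y, ht⟩ := exists_sum_incl P Q
    (((η_ P Q) 0).hom ((Monoidal.tensorUnit₀ (I := ℤ) (C := ModuleCat.{u} R)).inv.hom (1 : R)))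
  have key : ∀ (V : (GM R)) (d : Fin m → ℤ) (v : ∀ k, V (d k)) (g : ∀ i, V i →ₗ[R] ({k // d k = i} → R)),
      (∀ i w, Fintype.linearCombination R (fun k : {k // d k = i} => k.2 ▸ v k.1) (g i w) = w) →
      ∀ i : ℤ, Module.Finite R (V i) ∧ Module.Projective R (V i) ∧
        (((Finset.univ.sup fun k => (n k).natAbs : ℕ) : ℤ) < |i| → (∀ k, (d k).natAbs = (n k).natAbs) → Subsingleton (V i)) := by
    intro V d v g hg i
    refine ⟨Module.Finite.of_surjective _ fun w => ⟨g i w, hg i w⟩,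
      Module.Projective.of_split (g i) (Fintype.linearCombination R fun k : {k // d k = i} => k.2 ▸ v k.1)
        (LinearMap.ext fun w => hg i w), fun hi hd => ?_⟩
    refine subsingleton_of_forall_eq 0 fun w => ?_
    haveI : IsEmpty {k // d k = i} := ⟨fun k => by
      have h1 : (n k.1).natAbs ≤ Finset.univ.sup fun k => (n k).natAbs :=
        Finset.le_sup (f := fun k => (n k).natAbs) (Finset.mem_univ k.1)
      have h2 := hd k.1
      rw [k.2] at h2
      rw [Int.abs_eq_natAbs] at hi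
      omega⟩
    rw [← hg i w, Fintype.linearCombination_apply, Finset.univ_eq_empty, Finset.sum_empty]
  refine ⟨Finset.univ.sup fun k => (n k).natAbs, ?_, ?_⟩
  · let Z : (GM R) := fun i => ModuleCat.of R ({k // n k = i} → R)
    let j : Z ⟶ P := fun i => ModuleCat.ofHom (Fintype.linearCombination R (fun k : {k // n k = i} => k.2 ▸ x k.1))
    have hj : ∀ k, (j (n k)).hom (Pi.single (⟨k, rfl⟩ : {l // n l = n k}) (1 : R)) = x k := fun k => by
      show Fintype.linearCombination R _ (Pi.single (⟨k, rfl⟩ : {l // n l = n k}) (1 : R)) = x k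
      rw [Fintype.linearCombination_apply_single, one_smul]
    obtain ⟨g, hg⟩ := exists_section_left j (ofElem (∑ k, incl Z Q (n k) (-n k) 0 (add_neg_cancel _)
      ((Pi.single (⟨k, rfl⟩ : {l // n l = n k}) (1 : R) : {l // n l = n k} → R) ⊗ₜ y k))) (ofElem_comp _ _ _ (by
        rw [ht, map_sum]
        exact Finset.sum_congr rfl fun k _ => ((whiskerRight_incl j Q _ _ _ _ _ _).trans (by rw [hj])).symm))
    intro i
    obtain ⟨h1, h2, h3⟩ := key P n x (fun i => (g i).hom)
      (fun i w => LinearMap.congr_fun (congrArg ModuleCat.Hom.hom (congrFun hg i)) w) i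
    exact ⟨h1, h2, fun hi => h3 hi fun _ => rfl⟩
  · let Z : (GM R) := fun i => ModuleCat.of R ({k // -n k = i} → R)
    let j : Z ⟶ Q := fun i => ModuleCat.ofHom (Fintype.linearCombination R (fun k : {k // -n k = i} => k.2 ▸ y k.1))
    have hj : ∀ k, (j (-n k)).hom (Pi.single (⟨k, rfl⟩ : {l // -n l = -n k}) (1 : R)) = y k := fun k => by
      show Fintype.linearCombination R _ (Pi.single (⟨k, rfl⟩ : {l // -n l = -n k}) (1 : R)) = y k
      rw [Fintype.linearCombination_apply_single, one_smul]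
    obtain ⟨g, hg⟩ := exists_section_right j (ofElem (∑ k, incl P Z (n k) (-n k) 0 (add_neg_cancel _)
      (x k ⊗ₜ (Pi.single (⟨k, rfl⟩ : {l // -n l = -n k}) (1 : R) : {l // -n l = -n k} → R)))) (ofElem_comp _ _ _ (by
        rw [ht, map_sum]
        exact Finset.sum_congr rfl fun k _ => ((whiskerLeft_incl P j _ _ _ _ _ _).trans (by rw [hj])).symm))
    intro i
    obtain ⟨h1, h2, h3⟩ := key Q (fun k => -n k) y (fun i => (g i).hom)
      (fun i w => LinearMap.congr_fun (congrArg ModuleCat.Hom.hom (congrFun hg i)) w) i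
    exact ⟨h1, h2, fun hi => h3 hi fun _ => Int.natAbs_neg _⟩

end Groth.Agent.H4Pair
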