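import Mathlib.CategoryTheory.Monoidal.Rigid.Basic
import Mathlib.CategoryTheory.Monoidal.Functor

/-!
# Lifting the coevaluation gives retracts
-/

set_option autoImplicit false

namespace Groth.Agent.H4Pair

open CategoryTheory MonoidalCategory Functor.LaxMonoidal Functor.OplaxMonoidal

universe v₁ v₂ u₁ u₂

variable {C : Type u₁} [Category.{v₁} C] [MonoidalCategory C] {D : Type u₂} [Category.{v₂} D] [MonoidalCategory D]

/-- An exact pairing maps to an exact pairing under a monoidal functor. -/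
@[implicit_reducible]
def mapPairing (F : C ⥤ D) [F.Monoidal] (X Y : C) [ExactPairing X Y] : ExactPairing (F.obj X) (F.obj Y) where
  coevaluation' := ε F ≫ F.map (η_ X Y) ≫ δ F X Y
  evaluation' := μ F Y X ≫ F.map (ε_ X Y) ≫ η F
  coevaluation_evaluation' := by
    have h := congrArg F.map (ExactPairing.coevaluation_evaluation X Y)
    simp only [Functor.map_comp, Functor.Monoidal.map_whiskerLeft, Functor.Monoidal.map_whiskerRight,
      Functor.Monoidal.map_associator_inv, Functor.Monoidal.map_leftUnitor_inv, Functor.Monoidal.map_rightUnitor] at h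
    simp only [Category.assoc, Functor.Monoidal.μ_δ_assoc, Functor.Monoidal.whiskerLeft_μ_δ_assoc] at h
    simp only [MonoidalCategory.whiskerLeft_comp, comp_whiskerRight, Category.assoc]
    rw [← cancel_epi (δ F Y (𝟙_ C) ≫ F.obj Y ◁ η F), ← cancel_mono (ε F ▷ F.obj Y ≫ μ F (𝟙_ C) Y)]
    simp only [Category.assoc]
    simpa using h
  evaluation_coevaluation' := by
    have h := congrArg F.map (ExactPairing.evaluation_coevaluation X Y)
    simp only [Functor.map_comp, Functor.Monoidal.map_whiskerLeft, Functor.Monoidal.map_whiskerRight,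
      Functor.Monoidal.map_associator, Functor.Monoidal.map_leftUnitor, Functor.Monoidal.map_rightUnitor_inv] at h
    simp only [Category.assoc, Functor.Monoidal.μ_δ_assoc, Functor.Monoidal.whiskerRight_μ_δ_assoc] at h
    simp only [MonoidalCategory.whiskerLeft_comp, comp_whiskerRight, Category.assoc]
    rw [← cancel_epi (δ F (𝟙_ C) X ≫ η F ▷ F.obj X), ← cancel_mono (F.obj X ◁ ε F ≫ μ F X (𝟙_ C))]
    simp only [Category.assoc]
    simpa using h

/-- A lift of the coevaluation along a map to the first factor splits it. -/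
theorem exists_section_left {X Y Z : D} [ExactPairing X Y] (j : Z ⟶ X) (e : 𝟙_ D ⟶ Z ⊗ Y)
    (he : e ≫ j ▷ Y = η_ X Y) : ∃ g : X ⟶ Z, g ≫ j = 𝟙 X := by
  refine ⟨(λ_ X).inv ≫ e ▷ X ≫ (α_ Z Y X).hom ≫ Z ◁ ε_ X Y ≫ (ρ_ Z).hom, ?_⟩
  calc ((λ_ X).inv ≫ e ▷ X ≫ (α_ Z Y X).hom ≫ Z ◁ ε_ X Y ≫ (ρ_ Z).hom) ≫ j
      = (λ_ X).inv ≫ ((e ≫ j ▷ Y) ▷ X ≫ (α_ X Y X).hom ≫ X ◁ ε_ X Y) ≫ (ρ_ X).hom := by
        simp only [comp_whiskerRight, Category.assoc, associator_naturality_left_assoc, ← whisker_exchange_assoc,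
          rightUnitor_naturality]
    _ = 𝟙 X := by rw [he, ExactPairing.evaluation_coevaluation]; simp

/-- A lift of the coevaluation along a map to the second factor splits it. -/
theorem exists_section_right {X Y Z : D} [ExactPairing X Y] (j : Z ⟶ Y) (e : 𝟙_ D ⟶ X ⊗ Z)
    (he : e ≫ X ◁ j = η_ X Y) : ∃ g : Y ⟶ Z, g ≫ j = 𝟙 Y := by
  refine ⟨(ρ_ Y).inv ≫ Y ◁ e ≫ (α_ Y X Z).inv ≫ ε_ X Y ▷ Z ≫ (λ_ Z).hom, ?_⟩
  calc ((ρ_ Y).inv ≫ Y ◁ e ≫ (α_ Y X Z).inv ≫ ε_ X Y ▷ Z ≫ (λ_ Z).hom) ≫ j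
      = (ρ_ Y).inv ≫ (Y ◁ (e ≫ X ◁ j) ≫ (α_ Y X Y).inv ≫ ε_ X Y ▷ Y) ≫ (λ_ Y).hom := by
        simp only [MonoidalCategory.whiskerLeft_comp, Category.assoc, associator_inv_naturality_right_assoc,
          whisker_exchange_assoc, leftUnitor_naturality]
    _ = 𝟙 Y := by rw [he, ExactPairing.coevaluation_evaluation]; simp

end Groth.Agent.H4Pair
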